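/-
Termwise split inverse systems of right resolutions of truncations.
-/
import Mathlib
import Groth.Agent.DHA.ClassRes

universe w v u

open CategoryTheory CategoryTheory.Limits CochainComplex HomComplex
open HomologicalComplex (eval)

namespace Groth.Agent.InvSys

variable {A : Type u} [Category.{v} A] [Abelian A]

/-- The map between successive truncations. -/
theorem exists_truncMap (K : CochainComplex A ℤ) (m n : ℤ) (hmn : m < n) :
    ∃ t : K.truncGE m ⟶ K.truncGE n, K.πTruncGE m ≫ t = K.πTruncGE n := by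
  have hepi : Epi (K.πTruncGE m) :=
    inferInstanceAs (Epi (HomologicalComplex.πTruncGE K (ComplexShape.embeddingUpIntGE m)))
  refine ⟨Abelian.epiDesc (K.πTruncGE m) (K.πTruncGE n) ?_, Abelian.comp_epiDesc _ _ _⟩
  ext i
  by_cases hi : i < n
  · exact ((K.truncGE n).isZero_of_isStrictlyGE n i hi).eq_of_tgt _ _
  · obtain ⟨k, hk⟩ := Int.le.dest (show m ≤ i by omega)
    let e := ComplexShape.embeddingUpIntGE m
    have hk' : e.f k = i := by simp [e]; omega
    have hb : ¬ e.BoundaryGE k := by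
      rw [ComplexShape.boundaryGE_embeddingUpIntGE_iff]
      omega
    have := K.isIso_restrictionToTruncGE' e k hb
    have hmono : Mono ((K.πTruncGE m).f i) := by
      show Mono ((HomologicalComplex.πTruncGE K e).f i)
      rw [HomologicalComplex.πTruncGE, e.liftExtend_f _ _ hk']
      haveI : IsIso ((K.restrictionToTruncGE' e).f k) := this
      exact @mono_comp _ _ _ _ _ _ inferInstance _ (@mono_comp _ _ _ _ _ _ inferInstance _ inferInstance)
    have h0 : (kernel.ι (K.πTruncGE m)).f i = 0 := by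
      rw [← cancel_mono ((K.πTruncGE m).f i), zero_comp]
      exact HomologicalComplex.congr_hom (kernel.condition (K.πTruncGE m)) i
    simp [h0]

variable (I : ObjectProperty A) [I.IsClosedUnderIsomorphisms]
  (hI0 : ∃ Z : A, IsZero Z ∧ I Z) (hIprod : ∀ X Y : A, I X → I Y → I (X ⊞ Y))
  (hI : ∀ X : A, ∃ (Y : A) (ι : X ⟶ Y), I Y ∧ Mono ι)

include hI0 hIprod hI in
/-- A map into a complex with terms in the class factors as a monomorphic quasi-isomorphism
followed by a split epimorphism. -/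
theorem exists_factor {X Q : CochainComplex A ℤ} (α : X ⟶ Q) (a b : ℤ) [X.IsStrictlyGE a]
    [Q.IsStrictlyGE b] (hQ : ∀ i, I (Q.X i)) :
    ∃ (Q' : CochainComplex A ℤ) (p : Q' ⟶ Q) (π : X ⟶ Q'),
      (∃ c : ℤ, Q'.IsStrictlyGE c) ∧ (∀ i, I (Q'.X i)) ∧ QuasiIso π ∧ (∀ i, Mono (π.f i)) ∧
      (∀ i, (∃ s : Q.X i ⟶ Q'.X i, s ≫ p.f i = 𝟙 _) ∧ I (kernel (p.f i))) ∧ π ≫ p = α := by
  letI : HasDerivedCategory A := HasDerivedCategory.standard A
  let c₀ := min (a - 1) b
  have hc : (mappingCone α).IsStrictlyGE c₀ :=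
    CochainComplex.isStrictlyGE_mappingCone α a b _ (by omega) (by omega)
  obtain ⟨N, ρ, hN, hIN, hρm, hρ⟩ :=
    DHA.ClassRes.exists_rightResolution (I := fun Y => I Y) hI hI0 (mappingCone α) c₀
  have := hN
  let δ : Q ⟶ N := mappingCone.inr α ≫ ρ
  have comm : mappingCone.inr α ≫ ρ = 𝟙 Q ≫ δ := (Category.id_comp _).symm
  let μ := mappingCone.map (mappingCone.inr α) δ (𝟙 Q) ρ comm
  have hμ : QuasiIso μ := by
    rw [← DerivedCategory.isIso_Q_map_iff_quasiIso]
    have h1 := DerivedCategory.mappingCone_triangle_distinguished (mappingCone.inr α)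
    have h2 := DerivedCategory.mappingCone_triangle_distinguished δ
    have : IsIso (DerivedCategory.Q.map ρ) := (DerivedCategory.isIso_Q_map_iff_quasiIso (φ := ρ)).2 hρ
    exact Pretriangulated.isIso₃_of_isIso₁₂
      (DerivedCategory.Q.mapTriangle.map (mappingCone.triangleMap _ δ (𝟙 Q) ρ comm)) h1 h2
      (inferInstanceAs (IsIso (DerivedCategory.Q.map (𝟙 Q)))) this
  let rot := mappingCone.rotateHomotopyEquiv α
  let Φ : X⟦(1 : ℤ)⟧ ⟶ mappingCone δ := rot.hom ≫ μ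
  have hΦq : QuasiIso Φ := quasiIso_comp rot.hom μ
  have hrotm : ∀ i, Mono (rot.hom.f i) := fun i => by
    have h1 : rot.hom.f i ≫ (mappingCone.snd (mappingCone.inr α)).v i i (add_zero i) =
        -((X.shiftFunctorObjXIso 1 i (i + 1) rfl).hom ≫ (mappingCone.inl α).v (i + 1) i (by omega)) := by
      dsimp [rot, mappingCone.rotateHomotopyEquiv]
      erw [mappingCone.lift_f_snd_v]
      simp [(mappingCone.inl α).leftShift_v 1 0 (neg_add_cancel 1) i i (add_zero i) (i + 1) (by omega)]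
      rfl
    have : Mono ((mappingCone.inl α).v (i + 1) i (by omega)) :=
      (SplitMono.mk ((mappingCone.fst α).1.v i (i + 1) rfl) (by simp)).mono
    have : Mono (rot.hom.f i ≫ (mappingCone.snd (mappingCone.inr α)).v i i (add_zero i)) := by
      rw [h1]; infer_instance
    exact mono_of_mono (rot.hom.f i) ((mappingCone.snd (mappingCone.inr α)).v i i (add_zero i))
  have hμm : ∀ i, Mono (μ.f i) := fun i => by
    have := hρm i
    rw [Preadditive.mono_iff_cancel_zero]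
    intro W y hy
    have h1 : μ.f i ≫ (mappingCone.fst δ).1.v i (i + 1) rfl =
        (mappingCone.fst (mappingCone.inr α)).1.v i (i + 1) rfl := by
      simp [μ, mappingCone.map, mappingCone.ext_from_iff _ (i + 1) i rfl]
    have h2 : μ.f i ≫ (mappingCone.snd δ).v i i (add_zero i) =
        (mappingCone.snd (mappingCone.inr α)).v i i (add_zero i) ≫ ρ.f i := by
      simp [μ, mappingCone.map, mappingCone.ext_from_iff _ (i + 1) i rfl]
    refine mappingCone.ext_to _ i (i + 1) rfl ?_ ?_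
    · rw [zero_comp, ← h1, reassoc_of% hy, zero_comp]
    · rw [zero_comp, ← cancel_mono (ρ.f i), Category.assoc, ← h2, reassoc_of% hy, zero_comp, zero_comp]
  let σ := shiftFunctorCompIsoId (CochainComplex A ℤ) (1 : ℤ) (-1) (by omega)
  let Q' : CochainComplex A ℤ := (mappingCone δ)⟦(-1 : ℤ)⟧
  let π : X ⟶ Q' := σ.inv.app X ≫ Φ⟦(-1 : ℤ)⟧'
  let p : Q' ⟶ Q := (-(mappingCone.triangle δ).mor₃)⟦(-1 : ℤ)⟧' ≫ σ.hom.app Q
  refine ⟨Q', p, π, ⟨min (b - 1) c₀ + 1, ?_⟩, fun i => ?_, ?_, fun i => ?_, fun i => ?_, ?_⟩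
  · have : (mappingCone δ).IsStrictlyGE (min (b - 1) c₀) :=
      CochainComplex.isStrictlyGE_mappingCone δ b c₀ _ (by omega) (by omega)
    exact (mappingCone δ).isStrictlyGE_shift (min (b - 1) c₀) (-1) _ (by omega)
  · exact I.prop_of_iso (HomologicalComplex.homotopyCofiber.XIsoBiprod δ (i + -1) (i + -1 + 1) rfl).symm
      (hIprod _ _ (hQ _) (hIN _))
  · have : QuasiIso (Φ⟦(-1 : ℤ)⟧') := by
      rw [← DerivedCategory.isIso_Q_map_iff_quasiIso]
      have : IsIso (DerivedCategory.Q.map Φ) := (DerivedCategory.isIso_Q_map_iff_quasiIso (φ := Φ)).2 hΦq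
      exact (NatIso.isIso_map_iff (DerivedCategory.Q.commShiftIso (-1 : ℤ)) Φ).2
        (inferInstanceAs (IsIso ((DerivedCategory.Q.map Φ)⟦(-1 : ℤ)⟧')))
    exact quasiIso_comp (σ.inv.app X) (Φ⟦(-1 : ℤ)⟧')
  · have : IsIso ((σ.inv.app X).f i) :=
      inferInstanceAs (IsIso ((eval A _ i).map (σ.inv.app X)))
    have := hrotm (i + -1)
    have := hμm (i + -1)
    have : Mono ((Φ⟦(-1 : ℤ)⟧').f i) :=
      inferInstanceAs (Mono (rot.hom.f (i + -1) ≫ μ.f (i + -1)))
    exact mono_comp ((σ.inv.app X).f i) ((Φ⟦(-1 : ℤ)⟧').f i)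
  · let j : ℤ := i + -1
    let u : Q.X (j + 1) ≅ Q.X i :=
      (Q.shiftFunctorObjXIso 1 j (j + 1) rfl).symm ≪≫ (eval A _ i).mapIso (σ.app Q)
    have hp : p.f i = (mappingCone.fst δ).1.v j (j + 1) rfl ≫ u.hom := by
      dsimp only [p, HomologicalComplex.comp_f]
      change (-((Cochain.rightShift (-(mappingCone.fst δ).1) 1 0 (zero_add 1)).v j j (add_zero j))) ≫
        (σ.hom.app Q).f i = _
      rw [Cochain.rightShift_neg, Cochain.neg_v, neg_neg,
        Cochain.rightShift_v _ 1 0 (zero_add 1) j j (add_zero j) (j + 1) rfl, Category.assoc]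
      rfl
    refine ⟨⟨u.inv ≫ (mappingCone.inl δ).v (j + 1) j (by omega), ?_⟩, ?_⟩
    · rw [hp]
      erw [Category.assoc, mappingCone.inl_v_fst_v_assoc]
      exact u.inv_hom_id
    · have hk : IsLimit (KernelFork.ofι ((mappingCone.inr δ).f j)
          (show (mappingCone.inr δ).f j ≫ (mappingCone.fst δ).1.v j (j + 1) rfl = 0 by simp)) :=
        KernelFork.IsLimit.ofι _ _ (fun g _ => g ≫ (mappingCone.snd δ).v j j (add_zero j))
          (fun g hg => mappingCone.ext_to _ j (j + 1) rfl (by simp [hg]) (by simp))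
          (fun g hg m hm => by rw [← hm]; simp)
      refine I.prop_of_iso ?_ (hIN j)
      exact (hk.conePointUniqueUpToIso (kernelIsKernel _)) ≪≫
        (kernelCompMono ((mappingCone.fst δ).1.v j (j + 1) rfl) u.hom).symm ≪≫
          kernelIsoOfEq hp.symm
  · show (σ.inv.app X ≫ Φ⟦(-1 : ℤ)⟧') ≫ (-(mappingCone.triangle δ).mor₃)⟦(-1 : ℤ)⟧' ≫ σ.hom.app Q = α
    have h1 : Φ ≫ (-(mappingCone.triangle δ).mor₃) = α⟦(1 : ℤ)⟧' := by
      have h2 : μ ≫ (mappingCone.triangle δ).mor₃ = (mappingCone.triangle (mappingCone.inr α)).mor₃ := by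
        have := (mappingCone.triangleMap _ δ (𝟙 Q) ρ comm).comm₃
        simp only [mappingCone.triangleMap, CategoryTheory.Functor.map_id] at this
        exact this.symm.trans (Category.comp_id _)
      have h3 : μ ≫ (-(mappingCone.triangle δ).mor₃) = -(mappingCone.triangle (mappingCone.inr α)).mor₃ :=
        (Preadditive.comp_neg _ _).trans (congrArg Neg.neg h2)
      have h4 : rot.hom ≫ (-(mappingCone.triangle (mappingCone.inr α)).mor₃) = α⟦(1 : ℤ)⟧' :=
        (Preadditive.comp_neg _ _).trans ((congrArg Neg.neg (mappingCone.rotateHomotopyEquiv_comm₃ α)).trans (neg_neg _))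
      exact (Category.assoc _ _ _).trans ((congrArg (rot.hom ≫ ·) h3).trans h4)
    rw [Category.assoc, ← Functor.map_comp_assoc, h1]
    erw [σ.hom.naturality α]
    simp

include hI0 hIprod hI in
theorem exists_system (K : CochainComplex A ℤ) :
    ∃ (Q : ℕ → CochainComplex A ℤ) (p : ∀ n, Q (n + 1) ⟶ Q n) (π : ∀ n : ℕ, K.truncGE (-(n : ℤ)) ⟶ Q n),
      (∀ n, QuasiIso (π n) ∧ ∀ i, Mono ((π n).f i)) ∧
      (∀ n, ∃ a : ℤ, (Q n).IsStrictlyGE a) ∧ (∀ n i, I ((Q n).X i)) ∧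
      (∀ n i, (∃ s : (Q n).X i ⟶ (Q (n + 1)).X i, s ≫ (p n).f i = 𝟙 _) ∧ I (kernel ((p n).f i))) ∧
      (∀ n : ℕ, K.πTruncGE (-((n + 1 : ℕ) : ℤ)) ≫ π (n + 1) ≫ p n = K.πTruncGE (-(n : ℤ)) ≫ π n) := by
  classical
  let St : ℕ → Type (max u v) := fun n =>
    { d : Σ Q : CochainComplex A ℤ, K.truncGE (-(n : ℤ)) ⟶ Q //
      QuasiIso d.2 ∧ (∀ i, Mono (d.2.f i)) ∧ (∃ a : ℤ, d.1.IsStrictlyGE a) ∧ ∀ i, I (d.1.X i) }
  have h0 : Nonempty (St 0) := by
    obtain ⟨L, γ, hL, hIL, hm, hq⟩ :=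
      DHA.ClassRes.exists_rightResolution (I := fun Y => I Y) hI hI0 (K.truncGE (-((0 : ℕ) : ℤ))) (-((0 : ℕ) : ℤ))
    exact ⟨⟨⟨L, γ⟩, hq, hm, ⟨_, hL⟩, hIL⟩⟩
  have hs : ∀ n (s : St n), ∃ (s' : St (n + 1)) (q : s'.1.1 ⟶ s.1.1),
      (∀ i, (∃ r : s.1.1.X i ⟶ s'.1.1.X i, r ≫ q.f i = 𝟙 _) ∧ I (kernel (q.f i))) ∧
      K.πTruncGE (-((n + 1 : ℕ) : ℤ)) ≫ s'.1.2 ≫ q = K.πTruncGE (-(n : ℤ)) ≫ s.1.2 := by
    intro n s
    obtain ⟨b, hb⟩ := s.2.2.2.1
    obtain ⟨t, ht⟩ := exists_truncMap K (-((n + 1 : ℕ) : ℤ)) (-(n : ℤ)) (by omega)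
    have := hb
    obtain ⟨Q', q, π', hge, hIQ, hq, hm, hp, he⟩ :=
      exists_factor I hI0 hIprod hI (t ≫ s.1.2) (-((n + 1 : ℕ) : ℤ)) b s.2.2.2.2
    exact ⟨⟨⟨Q', π'⟩, hq, hm, hge, hIQ⟩, q, hp, by rw [he, reassoc_of% ht]⟩
  let seq : ∀ n, St n := fun n => Nat.rec h0.some (fun m s => (hs m s).choose) n
  refine ⟨fun n => (seq n).1.1, fun n => (hs n (seq n)).choose_spec.choose, fun n => (seq n).1.2,
    fun n => ⟨(seq n).2.1, (seq n).2.2.1⟩, fun n => (seq n).2.2.2.1, fun n => (seq n).2.2.2.2,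
    fun n i => (hs n (seq n)).choose_spec.choose_spec.1 i,
    fun n => (hs n (seq n)).choose_spec.choose_spec.2⟩

end Groth.Agent.InvSys
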